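import Cfsg.Agent.Classification.SharplyThreeProjective.Coordinates

/-!
# Sharply triply transitive groups with a commutative two point stabiliser
-/

set_option autoImplicit false
set_option linter.style.haveILetI false
set_option linter.unusedSectionVars false

namespace CfsgLib.Classification.SharplyThreeProjective

open MulAction
open scoped OnePoint

/-- An involutive endomorphism of a finite commutative group with two fixed elements inverts all
squares. -/
theorem map_sq_eq_inv {M : Type*} [Group M] [Finite M] (hM : ∀ x y : M, x * y = y * x) (τ : M →* M)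
    (hττ : ∀ x, τ (τ x) = x) (h2 : Nat.card {x : M // τ x = x} = 2) (x : M) :
    τ (x * x) = (x * x)⁻¹ := by
  letI : CommGroup M := { (inferInstance : Group M) with mul_comm := hM }
  let ψ : M →* M := MonoidHom.mk' (fun y => y⁻¹ * τ y) fun y y' => by
    rw [map_mul, mul_inv]; exact mul_mul_mul_comm _ _ _ _
  have hker : Nat.card ψ.ker = 2 := by
    rw [← h2]
    refine Nat.card_congr (Equiv.subtypeEquivRight fun y => ?_)
    rw [MonoidHom.mem_ker]
    show y⁻¹ * τ y = 1 ↔ τ y = y
    rw [inv_mul_eq_one]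
    exact eq_comm
  have hidx : ψ.range.index = 2 := by
    have h1 := ψ.range.index_mul_card
    have h3 := ψ.ker.index_mul_card
    rw [Subgroup.index_ker, hker] at h3
    refine Nat.eq_of_mul_eq_mul_right (show 0 < Nat.card ψ.range from Nat.card_pos) ?_
    rw [h1, ← h3, mul_comm]
  obtain ⟨y, hy⟩ := Subgroup.mul_self_mem_of_index_two hidx x
  rw [← hy]
  show τ (y⁻¹ * τ y) = (y⁻¹ * τ y)⁻¹
  rw [map_mul, map_inv, hττ, mul_inv, inv_inv, mul_comm]

variable {G α : Type*} [Group G] [MulAction G α] [Finite G] [Finite α]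

section

variable (h3 : IsMultiplyPretransitive G α 3)
  (hs : ∀ (g : G) (a b c : α), a ≠ b → a ≠ c → b ≠ c → g • a = a → g • b = b → g • c = c → g = 1)

include h3 hs

/-- Recognition from a commutative two point stabiliser whose squares are inverted by the swap. -/
theorem of_commutative [FaithfulSMul G α] {a b c : α} (hab : a ≠ b) (hac : a ≠ c) (hbc : b ≠ c)
    {w : G} (hwa : w • a = b) (hwb : w • b = a) (hwc : w • c = c)
    (hD : ∀ x ∈ stabilizer G a ⊓ stabilizer G b, ∀ y ∈ stabilizer G a ⊓ stabilizer G b, x * y = y * x)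
    (hsq : ∀ d ∈ stabilizer G a ⊓ stabilizer G b, w * (d * d) * w = (d * d)⁻¹) :
    ∃ (F : Type) (_ : Field F) (_ : Fintype F), Fintype.card F + 1 = Nat.card α ∧
      Nonempty (G ≃* Matrix.ProjGenLinGroup (Fin 2) F) := by
  classical
  haveI := Fintype.ofFinite α
  have hn : 3 ≤ Nat.card α := by
    rw [Nat.card_eq_fintype_card]
    exact (Fintype.two_lt_card_iff).2 ⟨a, b, c, hab, hac, hbc⟩
  have hcard := CfsgLib.Perm.SharplyThree.card_pair_stabilizer h3 hs hab hn
  obtain ⟨F, fF, fFin, e, he, he0, he1, hFcard, hT, hA, -⟩ :=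
    exists_coord h3 hs hab hac hbc _ le_rfl hD (by omega)
  have hscal : ∀ r : F, r ≠ 0 → ∃ g ∈ stabilizer G a ⊓ stabilizer G b, g • e ∞ = e ∞ ∧
      ∀ x : F, g • e x = e ((r * x : F) : OnePoint F) := by
    intro r hr
    have har : a ≠ e r := he ▸ e.injective.ne (OnePoint.infty_ne_coe r)
    have hbr : b ≠ e r := he0 ▸ e.injective.ne fun h => hr (OnePoint.coe_injective h).symm
    obtain ⟨g, hga, hgb, hgc⟩ := CfsgLib.Perm.SharplyThree.exists_triple h3 hab hac hbc hab har hbr
    obtain ⟨r', -, hr'⟩ := hA g (Subgroup.mem_inf.2 ⟨hga, hgb⟩)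
    have h1 := hr' 1
    rw [he1, hgc, mul_one] at h1
    have hrr : r = r' := OnePoint.coe_injective (e.injective h1)
    exact ⟨g, Subgroup.mem_inf.2 ⟨hga, hgb⟩, by rw [he, hga], hrr ▸ hr'⟩
  refine ⟨F, fF, fFin, hFcard, nonempty_equiv_pgl e h3 hs hT
    (fun r hr => (hscal r hr).imp fun g hg => hg.2)
    (w := w) (by rw [he, he0, hwa]) (by rw [he, he0, hwb]) (by rw [he1, hwc]) fun x hx => ?_⟩
  obtain ⟨g, hg, -, hgx⟩ := hscal x hx
  have h1 : (g * g) • c = e ((x * x : F) : OnePoint F) := by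
    rw [mul_smul, ← he1, hgx, hgx, mul_one]
  have h2 : (g * g) • e (((x * x)⁻¹ : F) : OnePoint F) = c := by
    rw [mul_smul, hgx, hgx, ← mul_assoc, mul_inv_cancel₀ (mul_ne_zero hx hx), he1]
  rw [← h1, ← mul_smul]
  conv_lhs => rw [← hwc]
  rw [← mul_smul, hsq g hg, inv_smul_eq_iff, h2]

/-- The swap of `a`, `b` fixing `c` as an endomorphism of the two point stabiliser. -/
theorem exists_swap_hom {a b c : α} (hab : a ≠ b) (hac : a ≠ c) (hbc : b ≠ c) :
    ∃ (w : G) (σ : ↥(stabilizer G a ⊓ stabilizer G b) →* ↥(stabilizer G a ⊓ stabilizer G b)),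
      w • a = b ∧ w • b = a ∧ w • c = c ∧ w * w = 1 ∧
      (∀ d, ((σ d : ↥(stabilizer G a ⊓ stabilizer G b)) : G) = w * d * w) ∧ ∀ d, σ (σ d) = d := by
  obtain ⟨w, hwa, hwb, hwc, hww⟩ := CfsgLib.Perm.SharplyThree.exists_swap h3 hs hab hac hbc
  have hmem : ∀ d : ↥(stabilizer G a ⊓ stabilizer G b),
      w * d * w ∈ stabilizer G a ⊓ stabilizer G b := by
    intro d
    obtain ⟨hda, hdb⟩ := Subgroup.mem_inf.1 d.2
    rw [mem_stabilizer_iff] at hda hdb
    refine Subgroup.mem_inf.2 ⟨?_, ?_⟩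
    · rw [mem_stabilizer_iff, mul_smul, mul_smul, hwa, hdb, hwb]
    · rw [mem_stabilizer_iff, mul_smul, mul_smul, hwb, hda, hwa]
  refine ⟨w, MonoidHom.mk' (fun d => ⟨_, hmem d⟩) (fun d d' => Subtype.ext ?_), hwa, hwb, hwc, hww,
    fun d => rfl, fun d => Subtype.ext ?_⟩
  · show w * ((d : G) * d') * w = w * d * w * (w * d' * w)
    rw [show w * (d : G) * w * (w * d' * w) = w * d * (w * w) * d' * w by group, hww]
    group
  · show w * (w * (d : G) * w) * w = d
    rw [show w * (w * (d : G) * w) * w = (w * w) * d * (w * w) by group, hww, one_mul, mul_one]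

end

/-- A fixed point free involutive endomorphism of a finite group is the inversion. -/
theorem eq_inv_of_fpf {M : Type*} [Group M] [Finite M] (σ : M →* M) (hσσ : ∀ x, σ (σ x) = x)
    (hfix : ∀ x, σ x = x → x = 1) (x : M) : σ x = x⁻¹ := by
  have hinj : Function.Injective fun y : M => y⁻¹ * σ y := by
    intro y y' h
    have h' : y⁻¹ * σ y = y'⁻¹ * σ y' := h
    have h'' : σ (y' * y⁻¹) = y' * y⁻¹ := by
      rw [map_mul, map_inv, show σ y' = y' * (y'⁻¹ * σ y') by group, ← h']
      group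
    exact (mul_inv_eq_one.1 (hfix _ h'')).symm
  obtain ⟨y, rfl⟩ := Finite.injective_iff_surjective.1 hinj x
  show σ (y⁻¹ * σ y) = (y⁻¹ * σ y)⁻¹
  rw [map_mul, map_inv, hσσ, mul_inv_rev, inv_inv]

theorem comm_of_inv {M : Type*} [Group M] (σ : M →* M) (hσ : ∀ x, σ x = x⁻¹) (x y : M) :
    x * y = y * x := by
  have h := map_mul σ x y
  rw [hσ, hσ, hσ, ← mul_inv_rev] at h
  exact (inv_injective h)

/-- Degree `2^f + 1`. -/
theorem even_case [FaithfulSMul G α] (h3 : IsMultiplyPretransitive G α 3)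
    (hs : ∀ (g : G) (a b c : α), a ≠ b → a ≠ c → b ≠ c → g • a = a → g • b = b → g • c = c → g = 1)
    (hodd : Odd (Nat.card α)) (hn : 3 ≤ Nat.card α) :
    ∃ (F : Type) (_ : Field F) (_ : Fintype F), Fintype.card F + 1 = Nat.card α ∧
      Nonempty (G ≃* Matrix.ProjGenLinGroup (Fin 2) F) := by
  classical
  haveI := Fintype.ofFinite α
  rw [Nat.card_eq_fintype_card] at hn hodd
  obtain ⟨a, b, c, hab, hac, hbc⟩ := Fintype.two_lt_card_iff.1 (show 2 < Fintype.card α by omega)
  obtain ⟨w, σ, hwa, hwb, hwc, hww, hσ, hσσ⟩ := exists_swap_hom h3 hs hab hac hbc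
  have hw1 : w ≠ 1 := fun h => hab (by rw [← hwa, h, one_smul])
  have hfix : ∀ y : α, w • y = y → y = c := by
    intro y hy
    by_contra hyc
    haveI : Fact (Nat.Prime 2) := ⟨Nat.prime_two⟩
    have hmod := Equiv.Perm.card_fixedPoints_modEq (f := (fun x => w • x : Function.End α)) (p := 2) (n := 1)
      (by rw [pow_one]; exact (pow_two (M := Function.End α) _).trans (funext fun x => (smul_smul w w x).trans (by rw [hww, one_smul]; rfl)))
    have h2 : Fintype.card (Function.fixedPoints (fun x : α => w • x)) = 2 := by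
      have hset : Function.fixedPoints (fun x : α => w • x) = ({c, y} : Set α) := by
        ext x
        refine ⟨fun hx => ?_, fun hx => ?_⟩
        · by_contra hxm
          rw [Set.mem_insert_iff, Set.mem_singleton_iff, not_or] at hxm
          exact hw1 (hs w c y x (Ne.symm hyc) (Ne.symm hxm.1) (Ne.symm hxm.2) hwc hy hx)
        · rcases hx with rfl | rfl
          · exact hwc
          · exact hy
      rw [← Nat.card_eq_fintype_card, hset, Nat.card_coe_set_eq, Set.ncard_pair (Ne.symm hyc)]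
    rw [h2] at hmod
    obtain ⟨k, hk⟩ := hodd
    rw [Nat.ModEq, hk] at hmod
    omega
  have hfpf : ∀ d, σ d = d → d = 1 := by
    intro d hd
    have h1 : w * (d : G) * w = d := by rw [← hσ, hd]
    have h2 : w • (d : G) • c = (d : G) • c := by
      conv_rhs => rw [← h1]
      rw [mul_smul, mul_smul, hwc]
    obtain ⟨hda, hdb⟩ := Subgroup.mem_inf.1 d.2
    exact Subtype.ext (hs d a b c hab hac hbc hda hdb (hfix _ h2))
  have hinv := eq_inv_of_fpf σ hσσ hfpf
  refine of_commutative h3 hs hab hac hbc hwa hwb hwc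
    (fun x hx y hy => congrArg Subtype.val (comm_of_inv σ hinv ⟨x, hx⟩ ⟨y, hy⟩)) fun d hd => ?_
  have h := congrArg Subtype.val (hinv ⟨d * d, mul_mem hd hd⟩)
  rw [hσ] at h
  exact h

end CfsgLib.Classification.SharplyThreeProjective
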