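import Cfsg.Agent.Classification.SharplyThreeProjective.Recognition
import Cfsg.Agent.Classification.PSLTwoGeneral.Field

/-!
# Coordinates for sharply triply transitive groups
-/

set_option autoImplicit false
set_option linter.style.haveILetI false
set_option linter.unusedSectionVars false

namespace CfsgLib.Classification.SharplyThreeProjective

open MulAction
open scoped OnePoint

variable {G α : Type*} [Group G] [MulAction G α] [Finite G] [Finite α]

/-- A commutative subgroup of a two point stabiliser with at most two orbits elsewhere gives field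
coordinates in which it acts by scalars and the whole two point stabiliser additively. -/
theorem exists_coord (h3 : IsMultiplyPretransitive G α 3)
    (hs : ∀ (g : G) (a b c : α), a ≠ b → a ≠ c → b ≠ c → g • a = a → g • b = b → g • c = c → g = 1)
    {a b c : α} (hab : a ≠ b) (hac : a ≠ c) (hbc : b ≠ c)
    (A : Subgroup G) (hA : A ≤ stabilizer G a ⊓ stabilizer G b)
    (hAcomm : ∀ x ∈ A, ∀ y ∈ A, x * y = y * x) (hAbig : Nat.card α ≤ 2 * Nat.card A + 2) :
    ∃ (F : Type) (_ : Field F) (_ : Fintype F) (e : OnePoint F ≃ α),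
      e ∞ = a ∧ e (0 : F) = b ∧ e (1 : F) = c ∧ Fintype.card F + 1 = Nat.card α ∧
      (∀ t : F, ∃ g : G, g • e ∞ = e ∞ ∧ ∀ x : F, g • e x = e ((x + t : F) : OnePoint F)) ∧
      (∀ g ∈ A, ∃ r : F, r ≠ 0 ∧ ∀ x : F, g • e x = e ((r * x : F) : OnePoint F)) ∧
      (∀ g ∈ stabilizer G a ⊓ stabilizer G b, ∃ γ : F →+ F,
        ∀ x : F, g • e x = e ((γ x : F) : OnePoint F)) := by
  classical
  haveI := Fintype.ofFinite α
  have hn : 3 ≤ Nat.card α := by
    rw [Nat.card_eq_fintype_card]
    exact (Fintype.two_lt_card_iff).2 ⟨a, b, c, hab, hac, hbc⟩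
  obtain ⟨Q, hQle, hQn, hQcomm, hQfree, hQtr, hQcard⟩ :=
    CfsgLib.Perm.SharplyThree.exists_kernel h3 hs a hn
  letI : CommGroup Q :=
    { (inferInstance : Group Q) with mul_comm := fun x y => Subtype.ext (hQcomm x x.2 y y.2) }
  have hQa : ∀ k : Q, (k : G) • a = a := fun k => hQle k.2
  have hkb : ∀ k : Q, k ≠ 1 → (k : G) • b ≠ a ∧ (k : G) • b ≠ b := fun k hk =>
    ⟨fun h => hab (smul_left_cancel (k : G) ((hQa k).trans h.symm)),
      fun h => hk (Subtype.ext (hQfree k k.2 b hab.symm h))⟩
  obtain ⟨k₁, hk₁, hk₁c⟩ := hQtr b c hab.symm hac.symm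
  have hk₁1 : k₁ ≠ 1 := fun h => hbc (by rw [← hk₁c, h, one_smul])
  let conj : ↥(stabilizer G a) → AddMonoid.End (Additive Q) := fun g =>
    AddMonoidHom.mk'
      (fun v => Additive.ofMul ⟨(g : G) * ((Additive.toMul v : Q) : G) * (g : G)⁻¹,
        hQn g g.2 _ (Additive.toMul v).2⟩)
      (fun v v' => congrArg Additive.ofMul (Subtype.ext (by
        show (g : G) * (((Additive.toMul v : Q) : G) * ((Additive.toMul v' : Q) : G)) * (g : G)⁻¹ =
          ((g : G) * ((Additive.toMul v : Q) : G) * (g : G)⁻¹) *
          ((g : G) * ((Additive.toMul v' : Q) : G) * (g : G)⁻¹)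
        group)))
  have hconj : ∀ (g : ↥(stabilizer G a)) (v : Additive Q),
      ((Additive.toMul (conj g v) : Q) : G) = (g : G) * ((Additive.toMul v : Q) : G) * (g : G)⁻¹ :=
    fun g v => rfl
  have hconjb : ∀ (g : ↥(stabilizer G a)) (v : Additive Q), (g : G) • b = b →
      ((Additive.toMul (conj g v) : Q) : G) • b = (g : G) • ((Additive.toMul v : Q) : G) • b := by
    intro g v hgb
    rw [hconj, mul_smul, mul_smul, inv_smul_eq_iff.2 hgb.symm]
  have hext : ∀ {v v' : Additive Q},
      ((Additive.toMul v : Q) : G) = ((Additive.toMul v' : Q) : G) → v = v' :=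
    fun {v v'} h => Additive.toMul.injective (Subtype.ext h)
  have hAa : ∀ d : A, (d : G) • a = a ∧ (d : G) • b = b := fun d => Subgroup.mem_inf.1 (hA d.2)
  obtain ⟨F, fF, fFin, τ, hFcard, hτ1, hmul⟩ :=
    CfsgLib.Classification.PSLTwoGeneral.exists_field_of_irreducible
    (fun d : A => conj ⟨d, (hAa d).1⟩)
    (fun i j => AddMonoidHom.ext fun v => hext (by
      show ((Additive.toMul (conj _ (conj _ v)) : Q) : G) = ((Additive.toMul (conj _ (conj _ v)) : Q) : G)
      rw [hconj, hconj, hconj, hconj]
      have hij : (i : G) * j = j * i := hAcomm i i.2 j j.2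
      generalize ((Additive.toMul v : Q) : G) = u
      calc (i : G) * ((j : G) * u * (j : G)⁻¹) * (i : G)⁻¹
          = ((i : G) * j) * u * ((i : G) * j)⁻¹ := by group
        _ = ((j : G) * i) * u * ((j : G) * i)⁻¹ := by rw [hij]
        _ = (j : G) * ((i : G) * u * (i : G)⁻¹) * (j : G)⁻¹ := by group))
    (Additive.ofMul (⟨k₁, hk₁⟩ : Q))
    (fun h0 => hk₁1 (congrArg Subtype.val (congrArg Additive.toMul h0)))
    (fun W hW => by
      by_cases hWbot : W = ⊥
      · exact Or.inl hWbot
      right
      obtain ⟨v, hvW, hv0⟩ : ∃ v ∈ W, v ≠ 0 := by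
        by_contra hall
        push Not at hall
        exact hWbot ((AddSubgroup.eq_bot_iff_forall W).2 hall)
      have hv1 : Additive.toMul v ≠ 1 := fun h => hv0 h
      let o : Option A → W := fun x => x.elim 0 fun d => ⟨conj ⟨d, (hAa d).1⟩ v, hW d v hvW⟩
      have hne : ∀ d : A, conj ⟨d, (hAa d).1⟩ v ≠ 0 := fun d h => (hkb _ hv1).2 (by
        have h' := congrArg (fun w : Additive Q => ((Additive.toMul w : Q) : G) • b) h
        simp only [toMul_zero, Subgroup.coe_one, one_smul] at h'
        rw [hconjb _ _ (hAa d).2] at h'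
        exact smul_left_cancel (d : G) (h'.trans (hAa d).2.symm))
      have ho : Function.Injective o := by
        rintro (_ | d) (_ | d') h
        · rfl
        · exact absurd (congrArg Subtype.val h).symm (hne d')
        · exact absurd (congrArg Subtype.val h) (hne d)
        · have h' := congrArg (fun w : W => ((Additive.toMul (w : Additive Q) : Q) : G) • b) h
          change ((Additive.toMul (conj ⟨d, (hAa d).1⟩ v) : Q) : G) • b =
            ((Additive.toMul (conj ⟨d', (hAa d').1⟩ v) : Q) : G) • b at h'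
          rw [hconjb _ _ (hAa d).2, hconjb _ _ (hAa d').2] at h'
          obtain ⟨hne1, hne2⟩ := hkb _ hv1
          have h'' := hs ((d' : G)⁻¹ * d) a b _ hab hne1.symm hne2.symm
            (by rw [mul_smul, (hAa d).1, inv_smul_eq_iff, (hAa d').1])
            (by rw [mul_smul, (hAa d).2, inv_smul_eq_iff, (hAa d').2])
            (by rw [mul_smul, h', inv_smul_smul])
          exact congrArg some (Subtype.ext (inv_mul_eq_one.1 h'').symm)
      have hWcard := Nat.card_le_card_of_injective o ho
      rw [Finite.card_option] at hWcard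
      obtain ⟨k, hk⟩ : Nat.card W ∣ Nat.card (Additive Q) := AddSubgroup.card_addSubgroup_dvd_card W
      have hQA : Nat.card (Additive Q) = Nat.card Q := rfl
      refine AddSubgroup.eq_top_of_card_eq W ?_
      rcases k with _ | _ | k
      · have : 0 < Nat.card (Additive Q) := Nat.card_pos
        omega
      · omega
      · nlinarith)
  haveI : Finite (OnePoint F) := inferInstanceAs (Finite (Option F))
  let pt : F → α := fun x => ((Additive.toMul (τ x) : Q) : G) • b
  let φ : OnePoint F → α := fun o => o.elim a pt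
  have hpta : ∀ x, pt x ≠ a := fun x h => hab (smul_left_cancel _ ((hQa _).trans h.symm))
  have hpt : Function.Injective pt := by
    intro x y h
    by_contra hxy
    refine (hkb (Additive.toMul (τ x - τ y)) (fun h0 => hxy (τ.injective (sub_eq_zero.1 h0)))).2 ?_
    have e1 : τ x = τ y + (τ x - τ y) := by abel
    show ((Additive.toMul (τ x - τ y) : Q) : G) • b = b
    have h' : ((Additive.toMul (τ x) : Q) : G) • b = ((Additive.toMul (τ y) : Q) : G) • b := h
    rw [e1, toMul_add, Subgroup.coe_mul, mul_smul] at h'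
    exact smul_left_cancel _ h'
  have hφ : Function.Bijective φ := (Nat.bijective_iff_injective_and_card φ).2 ⟨by
    intro o o' h
    cases o with
    | infty => cases o' with
      | infty => rfl
      | coe y => exact absurd h.symm (hpta y)
    | coe x => cases o' with
      | infty => exact absurd h (hpta x)
      | coe y => rw [hpt h], by
    rw [show Nat.card (OnePoint F) = Nat.card (Option F) from rfl, Finite.card_option, hFcard]
    exact hQcard⟩
  refine ⟨F, fF, fFin, Equiv.ofBijective φ hφ, rfl, ?_, ?_, ?_, fun t => ?_, fun g hg => ?_,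
    fun g hg => ?_⟩
  · show ((Additive.toMul (τ 0) : Q) : G) • b = b
    rw [map_zero, toMul_zero, Subgroup.coe_one, one_smul]
  · show ((Additive.toMul (τ 1) : Q) : G) • b = c
    rw [hτ1]
    exact hk₁c
  · rw [← Nat.card_eq_fintype_card, hFcard]
    exact hQcard
  · refine ⟨((Additive.toMul (τ t) : Q) : G), hQa _, fun x => ?_⟩
    show ((Additive.toMul (τ t) : Q) : G) • pt x = pt (x + t)
    rw [← mul_smul, ← Subgroup.coe_mul, mul_comm, ← toMul_add, ← map_add]
  · obtain ⟨r, hr⟩ := hmul ⟨g, hg⟩
    have hgab := hAa ⟨g, hg⟩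
    refine ⟨r, fun h0 => ?_, fun x => ?_⟩
    · have h1 := hr 1
      rw [h0, zero_mul, map_zero, hτ1] at h1
      have h2 := congrArg (fun w : Additive Q => ((Additive.toMul w : Q) : G) • b) h1
      simp only [toMul_zero, Subgroup.coe_one, one_smul] at h2
      rw [hconjb _ _ hgab.2] at h2
      exact hbc (smul_left_cancel g (hgab.2.trans (h2.trans (by rw [toMul_ofMul]; exact congrArg _ hk₁c))))
    · show g • pt x = pt (r * x)
      show g • _ = ((Additive.toMul (τ (r * x)) : Q) : G) • b
      rw [hr, hconjb _ _ hgab.2]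
  · have hga := (Subgroup.mem_inf.1 hg).1
    refine ⟨τ.symm.toAddMonoidHom.comp ((conj ⟨g, hga⟩).comp τ.toAddMonoidHom), fun x => ?_⟩
    show g • pt x = ((Additive.toMul (τ (τ.symm (conj ⟨g, hga⟩ (τ x)))) : Q) : G) • b
    rw [τ.apply_symm_apply, hconjb ⟨g, hga⟩ _ (Subgroup.mem_inf.1 hg).2]

end CfsgLib.Classification.SharplyThreeProjective
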