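import Cfsg.Agent.Classification.SharplyThreeProjective.OddTools

/-!
# Sharply triply transitive groups of degree `p^f + 1`, `p` and `f` odd
-/

set_option autoImplicit false
set_option linter.style.haveILetI false
set_option linter.unusedSectionVars false

namespace CfsgLib.Classification.SharplyThreeProjective

open MulAction
open scoped OnePoint

variable {G α : Type*} [Group G] [MulAction G α] [Finite G] [Finite α]

section

variable (h3 : IsMultiplyPretransitive G α 3)
  (hs : ∀ (g : G) (a b c : α), a ≠ b → a ≠ c → b ≠ c → g • a = a → g • b = b → g • c = c → g = 1)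

include h3 hs

/-- In even degree a two point stabiliser has exactly one involution, which inverts the kernel of
the point stabiliser and is, with the identity, all that commutes with the swap. -/
theorem exists_central_involution {a b c : α} (hab : a ≠ b) (hac : a ≠ c) (hbc : b ≠ c)
    (heven : Even (Nat.card α)) (hn : 3 ≤ Nat.card α) {w : G}
    {σ : ↥(stabilizer G a ⊓ stabilizer G b) →* ↥(stabilizer G a ⊓ stabilizer G b)}
    (hwa : w • a = b) (hwc : w • c = c)
    (hσ : ∀ d, ((σ d : ↥(stabilizer G a ⊓ stabilizer G b)) : G) = w * d * w)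
    (hσσ : ∀ d, σ (σ d) = d) :
    ∃ (Q : Subgroup G) (z : ↥(stabilizer G a ⊓ stabilizer G b)),
      Q ≤ stabilizer G a ∧ (∀ g ∈ stabilizer G a, ∀ k ∈ Q, g * k * g⁻¹ ∈ Q) ∧
      (∀ k ∈ Q, ∀ l ∈ Q, k * l = l * k) ∧ (∀ k ∈ Q, ∀ y : α, y ≠ a → k • y = y → k = 1) ∧
      (∀ y y' : α, y ≠ a → y' ≠ a → ∃ k ∈ Q, k • y = y') ∧ Nat.card Q + 1 = Nat.card α ∧
      z ≠ 1 ∧ z * z = 1 ∧ (∀ x : ↥(stabilizer G a ⊓ stabilizer G b), x * x = 1 → x = 1 ∨ x = z) ∧
      (∀ k ∈ Q, (z : G) * k * (z : G)⁻¹ = k⁻¹) ∧ ∀ x, σ x = x ↔ x = 1 ∨ x = z := by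
  classical
  obtain ⟨Q, hQle, hQn, hQcomm, hQfree, hQtr, hQcard⟩ :=
    CfsgLib.Perm.SharplyThree.exists_kernel h3 hs a hn
  have hab' : ∀ d : ↥(stabilizer G a ⊓ stabilizer G b), (d : G) • a = a ∧ (d : G) • b = b := fun d => Subgroup.mem_inf.1 d.2
  have hinv : ∀ x : ↥(stabilizer G a ⊓ stabilizer G b), x * x = 1 → x ≠ 1 → ∀ k ∈ Q, (x : G) * k * (x : G)⁻¹ = k⁻¹ := by
    intro x hxx hx1 k hk
    set k' := (x : G) * k * (x : G)⁻¹ with hk'def
    have hk' : k' ∈ Q := hQn x (hab' x).1 k hk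
    have hxg : (x : G) * x = 1 := congrArg Subtype.val hxx
    have hxk' : (x : G) * k' * (x : G)⁻¹ = k := by
      rw [hk'def, show (x : G) * ((x : G) * k * (x : G)⁻¹) * (x : G)⁻¹ = (x * x) * k * (x * x : G)⁻¹ by
        group, hxg, one_mul, inv_one, mul_one]
    have hm : (x : G) * (k * k') * (x : G)⁻¹ = k * k' := by
      rw [show (x : G) * (k * k') * (x : G)⁻¹ = ((x : G) * k * (x : G)⁻¹) * ((x : G) * k' * (x : G)⁻¹) by
        group, hxk', ← hk'def, hQcomm k' hk' k hk]
    have h1 : (x : G) • (k * k') • b = (k * k') • b := by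
      conv_rhs => rw [← hm]
      rw [mul_smul ((x : G) * (k * k')), mul_smul (x : G) (k * k'), inv_smul_eq_iff.2 (hab' x).2.symm]
    by_contra hne
    have hm1 : k * k' ≠ 1 := fun h => hne (eq_inv_of_mul_eq_one_right h)
    have hmb : (k * k') • b ≠ b := fun h => hm1 (hQfree _ (mul_mem hk hk') b hab.symm h)
    have hma : (k * k') • b ≠ a := fun h =>
      hab (smul_left_cancel (k * k') ((hQle (mul_mem hk hk')).trans h.symm))
    exact hx1 (Subtype.ext (hs x a b _ hab hma.symm hmb.symm (hab' x).1 (hab' x).2 h1))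
  obtain ⟨k₁, hk₁, hk₁c⟩ := hQtr b c hab.symm hac.symm
  have hconjb : ∀ x : ↥(stabilizer G a ⊓ stabilizer G b), (x : G) • c = ((x : G) * k₁ * (x : G)⁻¹) • b := fun x => by
    rw [mul_smul, mul_smul, inv_smul_eq_iff.2 (hab' x).2.symm, hk₁c]
  have hev : 2 ∣ Nat.card ↥(stabilizer G a ⊓ stabilizer G b) := by
    have h := CfsgLib.Perm.SharplyThree.card_pair_stabilizer h3 hs hab hn
    obtain ⟨j, hj⟩ := heven
    exact ⟨j - 1, by omega⟩
  haveI : Fact (Nat.Prime 2) := ⟨Nat.prime_two⟩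
  obtain ⟨z, hz⟩ := exists_prime_orderOf_dvd_card' 2 hev
  have hzz : z * z = 1 := by rw [← pow_two, ← hz, pow_orderOf_eq_one]
  have hz1 : z ≠ 1 := fun h => by rw [h, orderOf_one] at hz; omega
  have huniq : ∀ x : ↥(stabilizer G a ⊓ stabilizer G b), x * x = 1 → x = 1 ∨ x = z := by
    intro x hx
    refine or_iff_not_imp_left.2 fun hx1 => ?_
    have h1 : (x : G) • c = (z : G) • c := by
      rw [hconjb, hconjb, hinv x hx hx1 _ hk₁, hinv z hzz hz1 _ hk₁]
    refine Subtype.ext (inv_mul_eq_one.1 (hs ((z : G)⁻¹ * x) a b c hab hac hbc ?_ ?_ ?_)).symm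
    · rw [mul_smul, (hab' x).1, inv_smul_eq_iff, (hab' z).1]
    · rw [mul_smul, (hab' x).2, inv_smul_eq_iff, (hab' z).2]
    · rw [mul_smul, h1, inv_smul_smul]
  have hσz : σ z = z := by
    rcases huniq (σ z) (by rw [← map_mul, hzz, map_one]) with h | h
    · exact absurd (by rw [← hσσ z, h, map_one]) hz1
    · exact h
  have hwcomm : ∀ d, σ d = d → w • (d : G) • c = (d : G) • c := by
    intro d hd
    have h1 : w * (d : G) * w = d := by rw [← hσ, hd]
    conv_rhs => rw [← h1]
    rw [mul_smul, mul_smul, hwc]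
  have hzc : (z : G) • c ≠ c := fun h =>
    hz1 (Subtype.ext (hs z a b c hab hac hbc (hab' z).1 (hab' z).2 h))
  refine ⟨Q, z, hQle, hQn, hQcomm, hQfree, hQtr, hQcard, hz1, hzz, huniq,
    fun k hk => hinv z hzz hz1 k hk, fun x => ⟨fun hx => ?_, ?_⟩⟩
  · by_contra hne
    rw [not_or] at hne
    have hxc : (x : G) • c ≠ c := fun h =>
      hne.1 (Subtype.ext (hs x a b c hab hac hbc (hab' x).1 (hab' x).2 h))
    have hxz : (x : G) • c ≠ (z : G) • c := fun h => hne.2 (Subtype.ext (inv_mul_eq_one.1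
      (hs ((z : G)⁻¹ * x) a b c hab hac hbc (by rw [mul_smul, (hab' x).1, inv_smul_eq_iff, (hab' z).1])
        (by rw [mul_smul, (hab' x).2, inv_smul_eq_iff, (hab' z).2])
        (by rw [mul_smul, h, inv_smul_smul]))).symm)
    have hw1 := hs w c _ _ hzc.symm hxc.symm hxz.symm hwc (hwcomm z hσz) (hwcomm x hx)
    exact hab (by rw [← hwa, hw1, one_smul])
  · rintro (rfl | rfl)
    · exact map_one σ
    · exact hσz

/-- A Sylow 2-subgroup of a two point stabiliser is cyclic. -/
theorem isCyclic_sylow {p f : ℕ} (hp : p.Prime) (hp2 : p ≠ 2) (hfo : Odd f) {a b : α} (hab : a ≠ b)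
    {Q : Subgroup G} (hQn : ∀ g ∈ stabilizer G a, ∀ k ∈ Q, g * k * g⁻¹ ∈ Q)
    (hQcomm : ∀ k ∈ Q, ∀ l ∈ Q, k * l = l * k)
    (hQfree : ∀ k ∈ Q, ∀ y : α, y ≠ a → k • y = y → k = 1) (hQle : Q ≤ stabilizer G a)
    (hQcard : Nat.card Q = p ^ f) {z : ↥(stabilizer G a ⊓ stabilizer G b)} (hz1 : z ≠ 1)
    (hzu : ∀ x : ↥(stabilizer G a ⊓ stabilizer G b), x * x = 1 → x = 1 ∨ x = z)
    (hzinv : ∀ k ∈ Q, (z : G) * k * (z : G)⁻¹ = k⁻¹)
    (P : Sylow 2 ↥(stabilizer G a ⊓ stabilizer G b)) : IsCyclic P := by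
  classical
  letI : CommGroup Q :=
    { (inferInstance : Group Q) with mul_comm := fun x y => Subtype.ext (hQcomm x x.2 y y.2) }
  -- the kernel has exponent `p`
  have hexp : ∀ k : Q, k ^ p = 1 := by
    intro k
    by_cases hk : k = 1
    · rw [hk, one_pow]
    haveI := Fact.mk hp
    obtain ⟨l, hl⟩ := exists_prime_orderOf_dvd_card' (G := Q) p (by
      rw [hQcard]; exact dvd_pow_self p (Nat.pos_iff_ne_zero.1 hfo.pos))
    have hl1 : l ≠ 1 := fun h => hp.ne_one (by rw [← hl, h, orderOf_one])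
    have hne : ∀ m : Q, m ≠ 1 → a ≠ (m : G) • b ∧ b ≠ (m : G) • b := fun m hm =>
      ⟨fun h => hab (smul_left_cancel (m : G) ((hQle m.2).trans h)),
        fun h => hm (Subtype.ext (hQfree m m.2 b hab.symm h.symm))⟩
    obtain ⟨g, hga, hgb, hgl⟩ := CfsgLib.Perm.SharplyThree.exists_triple h3 hab (hne l hl1).1
      (hne l hl1).2 hab (hne k hk).1 (hne k hk).2
    have hmem := hQn g hga l l.2
    have heq : (⟨_, hmem⟩ : Q) = k := by
      have h1 : (g * (l : G) * g⁻¹) • b = (k : G) • b := by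
        rw [mul_smul, mul_smul, inv_smul_eq_iff.2 hgb.symm, hgl]
      have h2 : ((k : G)⁻¹ * (g * l * g⁻¹)) • b = b := by rw [mul_smul, h1, inv_smul_smul]
      exact Subtype.ext (inv_mul_eq_one.1 (hQfree _ (mul_mem (inv_mem k.2) hmem) b hab.symm h2)).symm
    rw [← heq]
    refine Subtype.ext ?_
    rw [Subgroup.coe_pow, Subgroup.coe_one]
    show (g * (l : G) * g⁻¹) ^ p = 1
    rw [conj_pow, ← Subgroup.coe_pow, ← hl, pow_orderOf_eq_one, Subgroup.coe_one, mul_one,
      mul_inv_cancel]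
  have huP : CfsgLib.TwoGroupsQ.HasUniqueOrderP P 2 := by
    intro x y hx hy hy1
    rw [pow_two] at hx hy
    have hy' : (y : ↥(stabilizer G a ⊓ stabilizer G b)) = z :=
      (hzu _ (congrArg Subtype.val hy)).resolve_left fun h => hy1 (Subtype.ext h)
    rcases hzu _ (congrArg Subtype.val hx) with h | h
    · rw [show x = 1 from Subtype.ext h]; exact one_mem _
    · rw [show x = y from Subtype.ext (h.trans hy'.symm)]; exact Subgroup.mem_zpowers y
  refine isCyclic_of_no_anticommute P.isPGroup' huP fun x y u huu hu1 heq => ?_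
  have hu : (u : ↥(stabilizer G a ⊓ stabilizer G b)) = z :=
    (hzu _ (congrArg Subtype.val huu)).resolve_left fun h => hu1 (Subtype.ext h)
  have hrel : ((x : ↥(stabilizer G a ⊓ stabilizer G b)) : G) * ((y : ↥(stabilizer G a ⊓ stabilizer G b)) : G)
      = (z : G) * (((y : ↥(stabilizer G a ⊓ stabilizer G b)) : G) *
        ((x : ↥(stabilizer G a ⊓ stabilizer G b)) : G)) := by
    rw [← hu]
    exact congrArg (fun r : P => ((r : ↥(stabilizer G a ⊓ stabilizer G b)) : G)) heq
  let C : ↥(stabilizer G a ⊓ stabilizer G b) → AddMonoid.End (Additive Q) := fun g =>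
    AddMonoidHom.mk'
      (fun v => Additive.ofMul ⟨(g : G) * ((Additive.toMul v : Q) : G) * (g : G)⁻¹,
        hQn g (Subgroup.mem_inf.1 g.2).1 _ (Additive.toMul v).2⟩)
      (fun v v' => congrArg Additive.ofMul (Subtype.ext (by
        show (g : G) * (((Additive.toMul v : Q) : G) * ((Additive.toMul v' : Q) : G)) * (g : G)⁻¹ =
          ((g : G) * ((Additive.toMul v : Q) : G) * (g : G)⁻¹) *
          ((g : G) * ((Additive.toMul v' : Q) : G) * (g : G)⁻¹)
        group)))
  have hC : ∀ g v, ((Additive.toMul (C g v) : Q) : G) =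
      (g : G) * ((Additive.toMul v : Q) : G) * (g : G)⁻¹ := fun g v => rfl
  have hext : ∀ {v v' : Additive Q},
      ((Additive.toMul v : Q) : G) = ((Additive.toMul v' : Q) : G) → v = v' :=
    fun {v v'} h => Additive.toMul.injective (Subtype.ext h)
  haveI : Finite (Additive Q) := inferInstanceAs (Finite Q)
  refine false_of_anticommute (A := Additive Q) hp hp2 hfo hQcard
    (fun v => Additive.toMul.injective (hexp (Additive.toMul v)))
    (C x) (C x⁻¹) (C y) (C y⁻¹)
    (fun v => hext (by rw [hC, hC]; simp only [InvMemClass.coe_inv, Subgroup.coe_inv]; group))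
    (fun v => hext (by rw [hC, hC]; simp only [InvMemClass.coe_inv, Subgroup.coe_inv]; group))
    fun v => hext ?_
  rw [hC, hC, toMul_neg, Subgroup.coe_inv, hC, hC, ← hzinv _ (hQn _ (Subgroup.mem_inf.1 y.1.2).1 _
    (hQn _ (Subgroup.mem_inf.1 x.1.2).1 _ (Additive.toMul v).2))]
  generalize ((Additive.toMul v : Q) : G) = m
  generalize hX : ((x : ↥(stabilizer G a ⊓ stabilizer G b)) : G) = X at hrel ⊢
  generalize hY : ((y : ↥(stabilizer G a ⊓ stabilizer G b)) : G) = Y at hrel ⊢
  calc X * (Y * m * Y⁻¹) * X⁻¹ = (X * Y) * m * (X * Y)⁻¹ := by group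
    _ = _ := by rw [hrel]; group

/-- Degree `p^f + 1` with `p` and `f` odd. -/
theorem odd_case [FaithfulSMul G α] {p f : ℕ} (hp : p.Prime) (hp2 : p ≠ 2) (hfo : Odd f)
    (hcard : Nat.card α = p ^ f + 1) :
    ∃ (F : Type) (_ : Field F) (_ : Fintype F), Fintype.card F + 1 = Nat.card α ∧
      Nonempty (G ≃* Matrix.ProjGenLinGroup (Fin 2) F) := by
  classical
  haveI := Fintype.ofFinite α
  have h2le : 2 ≤ p ^ f := hp.two_le.trans (Nat.le_self_pow (Nat.pos_iff_ne_zero.1 hfo.pos) p)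
  have hn : 3 ≤ Nat.card α := by omega
  have heven : Even (Nat.card α) := hcard ▸ ((hp.odd_of_ne_two hp2).pow).add_one
  have hn' : 2 < Fintype.card α := by
    rw [← Nat.card_eq_fintype_card]
    omega
  obtain ⟨a, b, c, hab, hac, hbc⟩ := Fintype.two_lt_card_iff.1 hn'
  obtain ⟨w, σ, hwa, hwb, hwc, hww, hσ, hσσ⟩ := exists_swap_hom h3 hs hab hac hbc
  obtain ⟨Q, z, hQle, hQn, hQcomm, hQfree, -, hQcard, hz1, hzz, hzu, hzinv, hfix⟩ :=
    exists_central_involution h3 hs hab hac hbc heven hn hwa hwc hσ hσσ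
  haveI : Fact (Nat.Prime 2) := ⟨Nat.prime_two⟩
  obtain ⟨P⟩ : Nonempty (Sylow 2 ↥(stabilizer G a ⊓ stabilizer G b)) := inferInstance
  obtain ⟨C, hCn, hCcomm, hCsq, hCcard⟩ := exists_commutative_index_two σ hσσ hz1 hzz hzu hfix P
    (isCyclic_sylow h3 hs hp hp2 hfo hab hQn hQcomm hQfree hQle (by omega) hz1 hzu hzinv P)
  have hDcard := CfsgLib.Perm.SharplyThree.card_pair_stabilizer h3 hs hab hn
  have hCmap : Nat.card (C.map (stabilizer G a ⊓ stabilizer G b).subtype) = Nat.card C :=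
    (Nat.card_congr (C.equivMapOfInjective _ (stabilizer G a ⊓ stabilizer G b).subtype_injective).toEquiv).symm
  obtain ⟨F, fF, fFin, e, hei, he0, he1, hFcard, -, hA, hγ⟩ := exists_coord h3 hs hab hac hbc
    (C.map (stabilizer G a ⊓ stabilizer G b).subtype) (Subgroup.map_subtype_le _)
    (by
      rintro _ ⟨x, hx, rfl⟩ _ ⟨y, hy, rfl⟩
      exact congrArg Subtype.val (hCcomm x hx y hy))
    (by omega)
  have hA' : ∀ d ∈ C, ∃ r : F, r ≠ 0 ∧ ∀ x : F, (d : G) • e x = e ((r * x : F) : OnePoint F) :=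
    fun d hd => hA _ ⟨d, hd, rfl⟩
  choose rr hrr0 hrr using hA'
  have hlin : ∀ g : ↥(stabilizer G a ⊓ stabilizer G b), ∃ k : F, ∀ x : F, (g : G) • e x = e ((k * x : F) : OnePoint F) := by
    intro g
    obtain ⟨γ, hγg⟩ := hγ g g.2
    have hc0 : γ 1 ≠ 0 := by
      intro h
      have h1 := hγg 1
      rw [h, he1, he0] at h1
      exact hbc (smul_left_cancel (g : G) ((Subgroup.mem_inf.1 g.2).2.trans h1.symm))
    have hinj : ∀ {u v : F}, e u = e v → u = v := fun h => OnePoint.coe_injective (e.injective h)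
    have hγinj : Function.Injective γ := fun u v h =>
      hinj (smul_left_cancel (g : G) (by rw [hγg, hγg, h]))
    have hsemi : ∀ d (hd : d ∈ C), ∀ y : F, γ (rr d hd * y) =
        rr (g * d * g⁻¹) (hCn.conj_mem d hd g) * γ y := by
      intro d hd y
      apply hinj
      rw [← hrr, ← hγg, ← hrr, ← hγg, Subgroup.coe_mul, Subgroup.coe_mul, InvMemClass.coe_inv, mul_smul,
        mul_smul, inv_smul_smul]
    let R : AddSubgroup F :=
      { carrier := {r | ∀ y : F, γ (r * y) * γ 1 = γ r * γ y}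
        zero_mem' := fun y => by rw [zero_mul, map_zero, zero_mul, zero_mul]
        add_mem' := fun {r r'} (h : ∀ y, _ = _) (h' : ∀ y, _ = _) y => by
          rw [add_mul, map_add, map_add, add_mul, add_mul, h, h']
        neg_mem' := fun {r} (h : ∀ y, _ = _) y => by
          rw [neg_mul, map_neg, map_neg, neg_mul, neg_mul, h] }
    have hRC : ∀ d (hd : d ∈ C), rr d hd ∈ R := by
      intro d hd y
      have h1 := hsemi d hd 1
      rw [mul_one] at h1
      rw [h1, hsemi]
      ring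
    let o : Option C → R := fun x => x.elim 0 fun d => ⟨rr d d.2, hRC d d.2⟩
    have ho : Function.Injective o := by
      rintro (_ | d) (_ | d') h
      · rfl
      · exact absurd (congrArg Subtype.val h).symm (hrr0 _ d'.2)
      · exact absurd (congrArg Subtype.val h) (hrr0 _ d.2)
      · have h' : rr d d.2 = rr d' d'.2 := congrArg Subtype.val h
        have hd := hrr d d.2 1
        rw [h', ← hrr d' d'.2 1, he1] at hd
        obtain ⟨ha1, hb1⟩ := Subgroup.mem_inf.1 d.1.2
        obtain ⟨ha2, hb2⟩ := Subgroup.mem_inf.1 d'.1.2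
        rw [mem_stabilizer_iff] at ha1 hb1 ha2 hb2
        exact congrArg some (Subtype.ext (Subtype.ext (inv_mul_eq_one.1
          (hs ((d' : G)⁻¹ * d) a b c hab hac hbc (by rw [mul_smul, ha1, inv_smul_eq_iff, ha2])
            (by rw [mul_smul, hb1, inv_smul_eq_iff, hb2])
            (by rw [mul_smul, hd, inv_smul_smul]))).symm))
    have hR : R = ⊤ := by
      have h1 := Nat.card_le_card_of_injective o ho
      rw [Finite.card_option] at h1
      obtain ⟨k, hk⟩ : Nat.card R ∣ Nat.card F := AddSubgroup.card_addSubgroup_dvd_card R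
      refine AddSubgroup.eq_top_of_card_eq R ?_
      have hFc : Nat.card F = Fintype.card F := Nat.card_eq_fintype_card
      rcases k with _ | _ | k
      · omega
      · omega
      · nlinarith
    have hmul : ∀ r y, γ (r * y) * γ 1 = γ r * γ y := fun r y =>
      (show r ∈ R from hR ▸ AddSubgroup.mem_top r) y
    let φ₀ : F →+* F :=
      { toFun := fun x => (γ 1)⁻¹ * γ x
        map_one' := inv_mul_cancel₀ hc0
        map_zero' := by rw [map_zero, mul_zero]
        map_add' := fun x y => by rw [map_add, mul_add]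
        map_mul' := fun x y => by
          have := hmul x y
          field_simp
          linear_combination this }
    let φ := RingEquiv.ofBijective φ₀ (Finite.injective_iff_bijective.1 φ₀.injective)
    have hγφ : ∀ x, γ x = γ 1 * φ x := fun x => by
      show γ x = γ 1 * ((γ 1)⁻¹ * γ x)
      rw [mul_inv_cancel_left₀ hc0]
    -- the square is linear
    have hinvol : ∀ x, φ (φ x) = x := by
      intro x
      have hsq : ∀ y : F, γ (γ y) = rr _ (hCsq g) * y := fun y => hinj (by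
        rw [← hrr, Subgroup.coe_mul, mul_smul, hγg, hγg])
      have h0 := hsq 1
      have hx := hsq x
      rw [mul_one] at h0
      rw [← h0, hγφ (γ x), hγφ x, map_mul, hγφ (γ 1)] at hx
      have hne : γ 1 * φ (γ 1) ≠ 0 :=
        mul_ne_zero hc0 ((map_ne_zero_iff φ φ.injective).2 hc0)
      exact mul_left_cancel₀ hne (by linear_combination hx)
    have hFf : Nat.card F = p ^ f := by rw [Nat.card_eq_fintype_card]; omega
    refine ⟨γ 1, fun x => ?_⟩
    rw [hγg, hγφ, ringEquiv_eq_id_of_involutive hp hFf hfo φ hinvol]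
  choose kk hkk using hlin
  have hDcomm : ∀ x ∈ stabilizer G a ⊓ stabilizer G b, ∀ y ∈ stabilizer G a ⊓ stabilizer G b, x * y = y * x := by
    intro x hx y hy
    have hxy : (x * y) • c = (y * x) • c := by
      rw [← he1, mul_smul, mul_smul, hkk ⟨y, hy⟩, hkk ⟨x, hx⟩, hkk ⟨x, hx⟩, hkk ⟨y, hy⟩, mul_one,
        mul_one, mul_comm]
    obtain ⟨hxa, hxb⟩ := Subgroup.mem_inf.1 (mul_mem hx hy)
    obtain ⟨hya, hyb⟩ := Subgroup.mem_inf.1 (mul_mem hy hx)
    rw [mem_stabilizer_iff] at hxa hxb hya hyb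
    exact (inv_mul_eq_one.1 (hs ((y * x)⁻¹ * (x * y)) a b c hab hac hbc
      (by rw [mul_smul, hxa, inv_smul_eq_iff, hya]) (by rw [mul_smul, hxb, inv_smul_eq_iff, hyb])
      (by rw [mul_smul, hxy, inv_smul_smul]))).symm
  refine of_commutative h3 hs hab hac hbc hwa hwb hwc hDcomm fun d hd => ?_
  have hfix2 : Nat.card {x : ↥(stabilizer G a ⊓ stabilizer G b) // σ x = x} = 2 := by
    rw [Nat.card_congr (Equiv.subtypeEquivRight hfix),
      show Nat.card {x : ↥(stabilizer G a ⊓ stabilizer G b) // x = 1 ∨ x = z} = Nat.card ↥({1, z} : Set ↥(stabilizer G a ⊓ stabilizer G b)) from rfl,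
      Nat.card_coe_set_eq, Set.ncard_pair hz1.symm]
  have h := congrArg Subtype.val
    (map_sq_eq_inv (fun x y => Subtype.ext (hDcomm x x.2 y y.2)) σ hσσ hfix2 ⟨d, hd⟩)
  rw [hσ] at h
  exact h

end

end CfsgLib.Classification.SharplyThreeProjective
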