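import Mathlib.FieldTheory.Galois.Basic
import Mathlib.FieldTheory.Finite.GaloisField
import Mathlib.GroupTheory.Transfer
import Cfsg.Agent.TwoGroupsQ.UniqueInvolution
import Cfsg.Agent.Classification.SharplyThreeProjective.Basic

/-!
# Tools for sharply triply transitive groups of degree `p^f + 1`, `p` and `f` odd
-/

set_option autoImplicit false
set_option linter.style.haveILetI false
set_option linter.unusedSectionVars false

namespace CfsgLib.Classification.SharplyThreeProjective

/-- A finite field of odd degree over its prime field has no involutive automorphism. -/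
theorem ringEquiv_eq_id_of_involutive {F : Type*} [Field F] [Finite F] {p f : ℕ} (hp : p.Prime)
    (hc : Nat.card F = p ^ f) (hf : Odd f) (φ : F ≃+* F) (hφ : ∀ x, φ (φ x) = x) (x : F) :
    φ x = x := by
  haveI := Fact.mk hp
  haveI : CharP F p := by
    haveI := Fintype.ofFinite F
    exact charP_of_card_eq_prime_pow (f := f) (by rw [← Nat.card_eq_fintype_card, hc])
  letI : Algebra (ZMod p) F := ZMod.algebra F p
  let τ : F ≃ₐ[ZMod p] F := AlgEquiv.ofRingEquiv (f := φ) fun c =>
    DFunLike.congr_fun (Subsingleton.elim ((φ : F →+* F).comp (algebraMap (ZMod p) F))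
      (algebraMap (ZMod p) F)) c
  have hrank : Module.finrank (ZMod p) F = f := by
    have h := Module.natCard_eq_pow_finrank (K := ZMod p) (V := F)
    rw [hc, Nat.card_zmod] at h
    exact (Nat.pow_right_injective hp.two_le h).symm
  have h1 : orderOf τ ∣ f := by
    rw [← hrank, ← IsGalois.card_aut_eq_finrank (ZMod p) F]
    exact orderOf_dvd_natCard τ
  have h2 : orderOf τ ∣ 2 := orderOf_dvd_of_pow_eq_one (by
    rw [pow_two]
    exact AlgEquiv.ext hφ)
  have h3 : τ = 1 := by
    rw [← orderOf_eq_one_iff]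
    have hcop : Nat.Coprime 2 f := Nat.coprime_two_left.2 hf
    exact Nat.dvd_one.1 (hcop ▸ Nat.dvd_gcd h2 h1)
  exact DFunLike.congr_fun h3 x

/-- Anticommuting automorphisms need an even dimension. -/
theorem false_of_anticommute_linear {K A : Type*} [Field K] [AddCommGroup A] [Module K A]
    [Module.Finite K A] (h2 : (2 : K) ≠ 0) (hf : Odd (Module.finrank K A)) (X X' Y Y' : A →ₗ[K] A)
    (hX : X ∘ₗ X' = LinearMap.id) (hY : Y ∘ₗ Y' = LinearMap.id)
    (h : X ∘ₗ Y = (-1 : K) • (Y ∘ₗ X)) : False := by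
  have hdet : ∀ Z Z' : A →ₗ[K] A, Z ∘ₗ Z' = LinearMap.id → LinearMap.det Z ≠ 0 := by
    intro Z Z' hZ h0
    have h1 := congrArg LinearMap.det hZ
    rw [LinearMap.det_comp, LinearMap.det_id, h0, zero_mul] at h1
    exact zero_ne_one h1
  have h1 := congrArg LinearMap.det h
  rw [LinearMap.det_comp, LinearMap.det_smul, LinearMap.det_comp, hf.neg_one_pow] at h1
  have h3 : LinearMap.det X * LinearMap.det Y * 2 = 0 := by linear_combination h1
  exact mul_ne_zero (mul_ne_zero (hdet X X' hX) (hdet Y Y' hY)) h2 h3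

theorem finrank_eq_of_card {p f : ℕ} [Fact p.Prime] {A : Type*} [AddCommGroup A] [Finite A]
    [Module (ZMod p) A] (hc : Nat.card A = p ^ f) : Module.finrank (ZMod p) A = f := by
  haveI := Fintype.ofFinite A
  have h := Module.card_eq_pow_finrank (K := ZMod p) (V := A)
  rw [← Nat.card_eq_fintype_card, hc, ZMod.card] at h
  exact (Nat.pow_right_injective (Fact.out : p.Prime).two_le h).symm

/-- A group of order `p^f` and exponent `p`, `p` and `f` odd, has no anticommuting pair of
automorphisms. -/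
theorem false_of_anticommute {A : Type*} [AddCommGroup A] [Finite A] {p f : ℕ} (hp : p.Prime)
    (hp2 : p ≠ 2) (hf : Odd f) (hc : Nat.card A = p ^ f) (hexp : ∀ v : A, p • v = 0)
    (X X' Y Y' : AddMonoid.End A) (hX : ∀ v, X (X' v) = v) (hY : ∀ v, Y (Y' v) = v)
    (h : ∀ v, X (Y v) = -Y (X v)) : False := by
  haveI := Fact.mk hp
  have h2 : (2 : ZMod p) ≠ 0 := fun h0 => hp2 <| by
    have h4 : ((2 : ℕ) : ZMod p) = 0 := by exact_mod_cast h0
    rwa [ZMod.natCast_eq_zero_iff, Nat.prime_dvd_prime_iff_eq hp Nat.prime_two] at h4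
  let inst : Module (ZMod p) A := AddCommGroup.zmodModule hexp
  exact @false_of_anticommute_linear (ZMod p) A _ _ inst
    (@Module.Finite.of_finite (ZMod p) A _ _ inst _) h2
    (by rw [@finrank_eq_of_card p f _ A _ _ inst hc]; exact hf)
    (AddMonoidHom.toZModLinearMap p X) (AddMonoidHom.toZModLinearMap p X')
    (AddMonoidHom.toZModLinearMap p Y) (AddMonoidHom.toZModLinearMap p Y')
    (LinearMap.ext hX) (LinearMap.ext hY) (LinearMap.ext fun v => by
      rw [LinearMap.smul_apply, neg_one_smul]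
      exact h v)

/-- A two group with a unique involution and no pair commuting up to it is cyclic. -/
theorem isCyclic_of_no_anticommute {P : Type*} [Group P] [Finite P] (hP : IsPGroup 2 P)
    (hu : CfsgLib.TwoGroupsQ.HasUniqueOrderP P 2)
    (hno : ∀ x y u : P, u * u = 1 → u ≠ 1 → x * y ≠ u * (y * x)) : IsCyclic P := by
  haveI : Fact (Nat.Prime 2) := ⟨Nat.prime_two⟩
  rcases CfsgLib.TwoGroupsQ.isCyclic_or_quaternion hP hu with h | ⟨-, m, hm, ⟨ε⟩⟩
  · exact h
  exfalso
  obtain ⟨k, hk⟩ : ∃ k, 2 ^ m = 2 * k := ⟨2 ^ (m - 1), by rw [← pow_succ']; congr 1; omega⟩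
  have hkpos : 0 < k := by
    have := Nat.two_pow_pos m
    omega
  set n := 2 ^ m with hn
  have h2n : ((n : ℕ) : ZMod (2 * n)) + (n : ℕ) = 0 := by
    rw [← Nat.cast_add, ← two_mul, ZMod.natCast_self]
  have hsq : (QuaternionGroup.a (n : ZMod (2 * n))) * QuaternionGroup.a (n : ZMod (2 * n)) = 1 := by
    rw [QuaternionGroup.a_mul_a, h2n]; rfl
  have hne : (QuaternionGroup.a (n : ZMod (2 * n))) ≠ 1 := fun h => by
    have h' : (n : ZMod (2 * n)) = 0 := QuaternionGroup.a.inj h
    rw [ZMod.natCast_eq_zero_iff] at h'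
    have := Nat.le_of_dvd (by omega) h'
    omega
  refine hno (ε.symm (QuaternionGroup.a (k : ZMod (2 * n)))) (ε.symm (QuaternionGroup.xa 0))
    (ε.symm (QuaternionGroup.a (n : ZMod (2 * n)))) (by rw [← map_mul, hsq, map_one])
    (fun h => hne (by simpa using congrArg ε h)) ?_
  rw [← map_mul, ← map_mul, ← map_mul, QuaternionGroup.a_mul_xa, QuaternionGroup.xa_mul_a,
    QuaternionGroup.a_mul_xa]
  congr 2
  have hnk : (n : ZMod (2 * n)) = k + k := by
    rw [← Nat.cast_add]
    exact congrArg Nat.cast (by omega)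
  rw [hnk]
  ring

/-- The two point stabiliser has a commutative normal subgroup of index at most two containing
all squares. -/
theorem exists_commutative_index_two {D : Type*} [Group D] [Finite D] (σ : D →* D)
    (hσσ : ∀ x, σ (σ x) = x) {z : D} (hz1 : z ≠ 1) (hzz : z * z = 1)
    (hzu : ∀ x : D, x * x = 1 → x = 1 ∨ x = z) (hfix : ∀ x, σ x = x ↔ x = 1 ∨ x = z)
    (P : Sylow 2 D) (hP : IsCyclic P) :
    ∃ C : Subgroup D, C.Normal ∧ (∀ x ∈ C, ∀ y ∈ C, x * y = y * x) ∧ (∀ d, d * d ∈ C) ∧
      Nat.card D ≤ 2 * Nat.card C := by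
  classical
  haveI : Fact (Nat.Prime 2) := ⟨Nat.prime_two⟩
  have hev : 2 ∣ Nat.card D := by
    rw [← orderOf_eq_prime (p := 2) (x := z) (by rw [pow_two, hzz]) hz1]
    exact orderOf_dvd_natCard z
  have hmin : (Nat.card D).minFac = 2 := (Nat.minFac_eq_two_iff _).2 hev
  have hcpl := IsCyclic.isComplement' hmin hP
  set π := MonoidHom.transferSylow P (hP.normalizer_le_centralizer hmin) with hπ
  set O := π.ker with hO
  have hzc : ∀ d : D, d * z = z * d := by
    intro d
    rcases hzu (d * z * d⁻¹) (by rw [show d * z * d⁻¹ * (d * z * d⁻¹) = d * (z * z) * d⁻¹ by group,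
        hzz, mul_one, mul_inv_cancel]) with h | h
    · exact absurd (conj_eq_one_iff.1 h) hz1
    · exact mul_inv_eq_iff_eq_mul.1 h
  have hOodd : Odd (Nat.card O) := by
    rw [Nat.odd_iff]
    by_contra h
    have h2 : 2 ∣ Nat.card O := by omega
    refine P.not_dvd_index ?_
    have h3 := hcpl.card_mul
    have h4 := (P : Subgroup D).card_mul_index
    rw [← h3, mul_comm (Nat.card O)] at h4
    rwa [Nat.eq_of_mul_eq_mul_left Nat.card_pos h4]
  have hOmem : ∀ u : D, u ∈ O ↔ u ^ Nat.card O = 1 := by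
    refine fun u => ⟨fun hu => congrArg Subtype.val (pow_card_eq_one' (x := (⟨u, hu⟩ : O))), fun hu => ?_⟩
    obtain ⟨j, hj⟩ := IsPGroup.iff_orderOf.1 P.isPGroup' (π u)
    have h1 : orderOf (π u) ∣ Nat.card O := orderOf_dvd_of_pow_eq_one (by rw [← map_pow, hu, map_one])
    rw [hj] at h1
    have hj0 : j = 0 := by
      by_contra h
      exact (Nat.not_even_iff_odd.2 hOodd) (even_iff_two_dvd.2 ((dvd_pow_self 2 h).trans h1))
    rw [hj0, pow_zero, orderOf_eq_one_iff] at hj
    exact MonoidHom.mem_ker.2 hj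
  have hOσ : ∀ u ∈ O, σ u ∈ O := fun u hu => (hOmem _).2 (by rw [← map_pow, (hOmem u).1 hu, map_one])
  have hzO : z ∉ O := by
    intro h
    obtain ⟨k, hk⟩ := hOodd
    have h1 := (hOmem z).1 h
    rw [hk, pow_succ, pow_mul, pow_two, hzz, one_pow, one_mul] at h1
    exact hz1 h1
  -- `σ` inverts `O`
  have hOinv : ∀ u ∈ O, σ u = u⁻¹ := by
    let σO : O →* O := (σ.comp O.subtype).codRestrict O fun u => hOσ u u.2
    have hv : ∀ u : O, (σO u : D) = σ u := fun u => rfl
    intro u hu
    exact congrArg Subtype.val (eq_inv_of_fpf σO (fun x => Subtype.ext (by rw [hv, hv, hσσ]))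
      (fun x hx => by
        rcases (hfix x).1 (by rw [← hv, hx]) with h | h
        · exact Subtype.ext h
        · exact absurd (h ▸ x.2) hzO) ⟨u, hu⟩)
  have hOcomm : ∀ u ∈ O, ∀ v ∈ O, u * v = v * u := by
    intro u hu v hv
    have h := map_mul σ u v
    rw [hOinv u hu, hOinv v hv, hOinv _ (mul_mem hu hv), ← mul_inv_rev] at h
    exact inv_injective h
  -- the quotient by `O`
  have hπsurj : Function.Surjective π := by
    have hinj : Function.Injective (π.comp (P : Subgroup D).subtype) := by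
      rw [injective_iff_map_eq_one]
      exact fun x hx => Subtype.ext (Subgroup.disjoint_def.1 hcpl.disjoint hx x.2)
    exact fun t => (Finite.injective_iff_surjective.1 hinj t).imp' _ fun _ => id
  have hfac : ∀ d d' : D, π d = π d' → π (σ d) = π (σ d') := by
    intro d d' h
    have h1 : d⁻¹ * d' ∈ O := MonoidHom.mem_ker.2 (by rw [map_mul, map_inv, h, inv_mul_cancel])
    have h2 := MonoidHom.mem_ker.1 (hOσ _ h1)
    rw [map_mul, map_inv, map_mul, map_inv, inv_mul_eq_one] at h2
    exact h2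
  obtain ⟨s, hs⟩ : ∃ s : P → D, ∀ t, π (s t) = t := hπsurj.hasRightInverse
  let τ : P →* P := MonoidHom.mk' (fun t => π (σ (s t))) fun t t' => by
    rw [hfac (s (t * t')) (s t * s t') (by rw [map_mul, hs, hs, hs]), map_mul, map_mul]
  have hτ : ∀ d, τ (π d) = π (σ d) := fun d => hfac _ _ (hs _)
  have hπz : π z ≠ 1 := fun h => hzO (MonoidHom.mem_ker.2 h)
  have hτfix : Nat.card {t : P // τ t = t} = 2 := by
    have hset : {t : P | τ t = t} = {1, π z} := by
      ext t
      refine ⟨fun ht => ?_, fun ht => ?_⟩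
      · obtain ⟨d, rfl⟩ := hπsurj t
        have ht' : π (σ d) = π d := (hτ d).symm.trans ht
        set y := d⁻¹ * σ d with hy
        have hyO : y ∈ O := MonoidHom.mem_ker.2 (by rw [map_mul, map_inv, ht', inv_mul_cancel])
        obtain ⟨k, hk⟩ := hOodd
        have huu : y ^ (k + 1) * y ^ (k + 1) = y := by
          rw [← pow_add, show k + 1 + (k + 1) = 2 * k + 1 + 1 by ring, pow_succ, ← hk,
            (hOmem y).1 hyO, one_mul]
        have huO := pow_mem hyO (k + 1)
        have hπu : π (y ^ (k + 1)) = 1 := MonoidHom.mem_ker.1 huO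
        have hfixd : σ (d * y ^ (k + 1)) = d * y ^ (k + 1) := by
          rw [map_mul, hOinv _ huO, show σ d = d * y by rw [hy, mul_inv_cancel_left], mul_assoc]
          congr 1
          rw [mul_inv_eq_iff_eq_mul]
          exact huu.symm
        rcases (hfix _).1 hfixd with h | h
        · left
          rw [show π d = π (d * y ^ (k + 1)) by rw [map_mul, hπu, mul_one], h, map_one]
        · right
          rw [Set.mem_singleton_iff, show π d = π (d * y ^ (k + 1)) by rw [map_mul, hπu, mul_one],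
            h]
      · rcases ht with rfl | rfl
        · exact map_one τ
        · show τ (π z) = π z
          rw [hτ, (hfix z).2 (Or.inr rfl)]
    rw [show Nat.card {t : P // τ t = t} = Nat.card ↥({t : P | τ t = t}) from rfl, hset,
      Nat.card_coe_set_eq, Set.ncard_pair hπz.symm]
  have hPcomm : ∀ t t' : P, t * t' = t' * t := fun t t' => by
    obtain ⟨g, hg⟩ := hP.exists_generator
    obtain ⟨i, rfl⟩ := Subgroup.mem_zpowers_iff.1 (hg t)
    obtain ⟨j, rfl⟩ := Subgroup.mem_zpowers_iff.1 (hg t')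
    rw [← zpow_add, ← zpow_add, add_comm]
  have hzP : π z * π z = 1 := by rw [← map_mul, hzz, map_one]
  have hinvP : ∀ t : P, t * t = 1 → t = 1 ∨ t = π z := by
    intro t ht
    have hsub : ∀ x : P, x * x = 1 → x = 1 ∨ (x : D) = z := fun x hx =>
      (hzu x (congrArg Subtype.val hx)).imp (fun h => Subtype.ext h) id
    rcases hsub t ht with h | h
    · exact Or.inl h
    rcases hsub _ hzP with h' | h'
    · exact absurd h' hπz
    · exact Or.inr (Subtype.ext (h.trans h'.symm))
  -- squares centralise `O`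
  have hsq : ∀ d : D, ∀ u ∈ O, d * d * u = u * (d * d) := by
    intro d u hu
    obtain ⟨y, hyO, e, he, hye⟩ : ∃ y ∈ O, ∃ e : D, (∀ x, x * e = e * x) ∧ σ d = y * e * d⁻¹ := by
      have h1 : π (σ d * d) * π (σ d * d) = 1 := by
        have h := map_sq_eq_inv hPcomm τ (fun t => by
          obtain ⟨x, rfl⟩ := hπsurj t
          rw [hτ, hτ, hσσ]) hτfix (π d)
        rw [map_mul τ, hτ, mul_eq_one_iff_eq_inv.symm] at h
        rw [map_mul, show π (σ d) * π d * (π (σ d) * π d) = π (σ d) * π (σ d) * (π d * π d) by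
          rw [mul_assoc, ← mul_assoc (π d), hPcomm (π d) (π (σ d)), mul_assoc, ← mul_assoc]]
        exact h
      rcases hinvP _ h1 with h | h
      · exact ⟨σ d * d, MonoidHom.mem_ker.2 h, 1, fun x => by rw [mul_one, one_mul], by group⟩
      · exact ⟨σ d * d * z⁻¹, MonoidHom.mem_ker.2 (by rw [map_mul, map_inv, h, mul_inv_cancel]),
          z, hzc, by group⟩
    haveI : O.Normal := MonoidHom.normal_ker π
    have h2 := hOinv _ (‹O.Normal›.conj_mem u hu d)
    rw [map_mul, map_mul, map_inv, hOinv u hu, hye] at h2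
    set v := d⁻¹ * u⁻¹ * d with hv
    have hvO : v ∈ O := by
      have := ‹O.Normal›.conj_mem _ (inv_mem hu) d⁻¹
      rwa [inv_inv] at this
    have h3 : y * e * v * (y * e)⁻¹ = v := by
      rw [mul_assoc y e v, ← he v, ← mul_assoc, hOcomm y hyO v hvO]; group
    have h4 : v = (d * u * d⁻¹)⁻¹ := by
      rw [← h3, ← h2, hv]; group
    have h5 : d * d * u⁻¹ = u⁻¹ * (d * d) := by
      calc d * d * u⁻¹ = d * (d * u * d⁻¹)⁻¹ * d := by group
        _ = d * v * d := by rw [h4]
        _ = u⁻¹ * (d * d) := by rw [hv]; group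
    calc d * d * u = u * (u⁻¹ * (d * d)) * u := by group
      _ = u * (d * d * u⁻¹) * u := by rw [h5]
      _ = u * (d * d) := by group
  haveI hOn : O.Normal := MonoidHom.normal_ker π
  have hsqC : ∀ d : D, d * d ∈ Subgroup.centralizer (O : Set D) := fun d =>
    Subgroup.mem_centralizer_iff.2 fun u hu => (hsq d u hu).symm
  have hOC : O ≤ Subgroup.centralizer (O : Set D) := fun u hu =>
    Subgroup.mem_centralizer_iff.2 fun v hv => hOcomm v hv u hu
  refine ⟨Subgroup.centralizer (O : Set D), inferInstance, fun x hx y hy => ?_, hsqC, ?_⟩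
  · refine congrArg Subtype.val (commutative_of_cyclic_center_quotient
      (π.comp (Subgroup.centralizer (O : Set D)).subtype) ?_ ⟨x, hx⟩ ⟨y, hy⟩)
    intro u hu
    refine Subgroup.mem_center_iff.2 fun v => Subtype.ext ?_
    exact ((Subgroup.mem_centralizer_iff.1 v.2) u hu).symm
  · obtain ⟨t, ht⟩ := hP.exists_generator
    obtain ⟨g, hg⟩ := hπsurj t
    set C := Subgroup.centralizer (O : Set D)
    have heven : ∀ (d : D) (j : ℤ), π d = t ^ (2 * j) → d ∈ C := by
      intro d j hd
      have h1 : d * ((g ^ j) * (g ^ j))⁻¹ ∈ O := MonoidHom.mem_ker.2 (by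
        rw [map_mul, map_inv, map_mul, map_zpow, hg, hd, ← zpow_add, ← two_mul, mul_inv_cancel])
      have h2 := mul_mem (hOC h1) (hsqC (g ^ j))
      rwa [inv_mul_cancel_right] at h2
    let F : C ⊕ C → D := Sum.elim (fun c => (c : D)) (fun c => g * c)
    have hF : Function.Surjective F := by
      intro d
      obtain ⟨i, hi⟩ := Subgroup.mem_zpowers_iff.1 (ht (π d))
      rcases Int.even_or_odd i with ⟨j, rfl⟩ | ⟨j, rfl⟩
      · exact ⟨Sum.inl ⟨d, heven d j (by rw [← hi, two_mul])⟩, rfl⟩
      · refine ⟨Sum.inr ⟨g⁻¹ * d, heven _ j ?_⟩, mul_inv_cancel_left g d⟩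
        rw [map_mul, map_inv, hg, ← hi, add_comm, zpow_add, zpow_one, inv_mul_cancel_left]
    have := Nat.card_le_card_of_surjective F hF
    rw [Nat.card_sum] at this
    omega

end CfsgLib.Classification.SharplyThreeProjective
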