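import Mathlib.Topology.Compactification.OnePoint.ProjectiveLine
import Mathlib.LinearAlgebra.Matrix.GeneralLinearGroup.Projective
import Cfsg.Agent.Perm.SharplyThree

/-!
# Recognising `PGL(2, F)` among sharply triply transitive groups

Coordinates `OnePoint F ≃ α` in which all translations and all scalings are in the group, and the
involution `w` with `w ∞ = 0`, `w 0 = ∞`, `w 1 = 1` inverts the squares, force `w` to be `x ↦ 1/x`.
-/

set_option autoImplicit false
set_option linter.style.haveILetI false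
set_option linter.unusedSectionVars false

namespace CfsgLib.Classification.SharplyThreeProjective

open MulAction
open scoped OnePoint MatrixGroups
open Matrix

variable {F : Type*} [Field F] [DecidableEq F]

/-- The Möbius action as a homomorphism. -/
noncomputable def glPerm (F : Type*) [Field F] [DecidableEq F] :
    GL (Fin 2) F →* Equiv.Perm (OnePoint F) :=
  MulAction.toPermHom (GL (Fin 2) F) (OnePoint F)

theorem glPerm_scalar (u : Fˣ) : glPerm F (GeneralLinearGroup.scalar (Fin 2) u) = 1 := by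
  refine Equiv.ext fun o => ?_
  show GeneralLinearGroup.scalar (Fin 2) u • o = o
  cases o with
  | infty => rw [OnePoint.smul_infty_eq_self_iff]; simp
  | coe x =>
    rw [OnePoint.smul_some_eq_ite]
    simp

/-- `PGL(2, F)` acting on the projective line. -/
noncomputable def pglPerm (F : Type*) [Field F] [DecidableEq F] :
    Matrix.ProjGenLinGroup (Fin 2) F →* Equiv.Perm (OnePoint F) :=
  ProjGenLinGroup.lift (glPerm F) (MonoidHom.ext glPerm_scalar)

/-- Only the identity fixes `∞`, `0` and `1`. -/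
theorem pglPerm_eq_one {x : Matrix.ProjGenLinGroup (Fin 2) F} (hi : pglPerm F x ∞ = ∞)
    (h0 : pglPerm F x ((0 : F) : OnePoint F) = ((0 : F) : OnePoint F))
    (h1 : pglPerm F x ((1 : F) : OnePoint F) = ((1 : F) : OnePoint F)) : x = 1 := by
  obtain ⟨g, rfl⟩ := ProjGenLinGroup.mk_surjective x
  change g • (∞ : OnePoint F) = _ at hi
  change g • ((0 : F) : OnePoint F) = _ at h0
  change g • ((1 : F) : OnePoint F) = _ at h1
  have hc : g 1 0 = 0 := OnePoint.smul_infty_eq_self_iff.1 hi
  rw [OnePoint.smul_some_eq_ite] at h0 h1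
  have hd : g 1 1 ≠ 0 := fun hd => by
    rw [if_pos (by rw [hd, mul_zero, add_zero])] at h0
    exact OnePoint.infty_ne_coe _ h0
  rw [if_neg (by rw [mul_zero, zero_add]; exact hd), OnePoint.coe_eq_coe, mul_zero, zero_add,
    mul_zero, zero_add, div_eq_zero_iff] at h0
  have hb : g 0 1 = 0 := h0.resolve_right hd
  rw [if_neg (by rw [hc, zero_mul, zero_add]; exact hd), OnePoint.coe_eq_coe, hc, hb, zero_mul,
    zero_add, add_zero, mul_one, div_eq_one_iff_eq hd] at h1
  rw [ProjGenLinGroup.mk_eq_one, GeneralLinearGroup.center_eq_range_scalar]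
  refine ⟨Units.mk0 _ hd, Units.ext (Matrix.ext fun i j => ?_)⟩
  fin_cases i <;> fin_cases j <;> simp [hc, hb, h1]

theorem pglPerm_injective : Function.Injective (pglPerm F) := by
  rw [injective_iff_map_eq_one]
  intro x hx
  exact pglPerm_eq_one (by rw [hx]; rfl) (by rw [hx]; rfl) (by rw [hx]; rfl)

/-- The matrix of a Möbius transformation. -/
noncomputable def mat (a b c d : F) (h : a * d - b * c ≠ 0) : GL (Fin 2) F :=
  GeneralLinearGroup.mkOfDetNeZero !![a, b; c, d] (by rw [det_fin_two_of]; exact h)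

variable {G α : Type*} [Group G] [MulAction G α]

/-- An involution exchanging `∞` and `0` and fixing `1` that inverts the squares is the inversion. -/
theorem swap_eq_inv [Finite F] [FaithfulSMul G α] (e : OnePoint F ≃ α)
    (hs : ∀ (g : G) (a b c : α), a ≠ b → a ≠ c → b ≠ c → g • a = a → g • b = b → g • c = c → g = 1)
    (hT : ∀ t : F, ∃ g : G, g • e ∞ = e ∞ ∧ ∀ x : F, g • e x = e ((x + t : F) : OnePoint F))
    (hS : ∀ r : F, r ≠ 0 → ∃ g : G, g • e ∞ = e ∞ ∧ ∀ x : F, g • e x = e ((r * x : F) : OnePoint F))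
    {w : G} (hwi : w • e ∞ = e (0 : F)) (hw0 : w • e (0 : F) = e ∞) (hw1 : w • e (1 : F) = e (1 : F))
    (hsq : ∀ x : F, x ≠ 0 → w • e ((x * x : F) : OnePoint F) = e (((x * x)⁻¹ : F) : OnePoint F)) :
    ∀ x : F, x ≠ 0 → w • e x = e ((x⁻¹ : F) : OnePoint F) := by
  classical
  haveI := Fintype.ofFinite F
  have hi0 : e ∞ ≠ e (0 : F) := e.injective.ne (OnePoint.infty_ne_coe _)
  have hi1 : e ∞ ≠ e (1 : F) := e.injective.ne (OnePoint.infty_ne_coe _)
  have h01 : e (0 : F) ≠ e (1 : F) := fun h =>
    zero_ne_one (OnePoint.coe_injective (e.injective h))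
  have hww : w * w = 1 := hs _ _ _ _ hi0 hi1 h01 (by rw [mul_smul, hwi, hw0])
    (by rw [mul_smul, hw0, hwi]) (by rw [mul_smul, hw1, hw1])
  have hw2 : ∀ y : α, w • w • y = y := fun y => by rw [← mul_smul, hww, one_smul]
  -- the stabiliser of `∞` is affine
  have haff : ∀ g : G, g • e ∞ = e ∞ → ∃ r t : F, ∀ x : F, g • e x = e ((r * x + t : F) : OnePoint F) := by
    intro g hg
    have hfin : ∀ x : F, ∃ y : F, g • e x = e y := by
      intro x
      obtain ⟨o, ho⟩ := e.surjective (g • e x)
      cases o with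
      | infty =>
        exact absurd (e.injective (smul_left_cancel g (hg.trans ho))) (OnePoint.infty_ne_coe x)
      | coe y => exact ⟨y, ho.symm⟩
    obtain ⟨t, ht⟩ := hfin 0
    obtain ⟨u, hu⟩ := hfin 1
    have hr : u - t ≠ 0 := fun h => h01 (smul_left_cancel g (by rw [ht, hu, sub_eq_zero.1 h]))
    obtain ⟨T, hTi, hTx⟩ := hT t
    obtain ⟨S, hSi, hSx⟩ := hS (u - t) hr
    have he : g = T * S := by
      rw [← inv_mul_eq_one]
      refine hs _ _ _ _ hi0 hi1 h01 ?_ ?_ ?_
      · rw [mul_smul, mul_smul, hSi, hTi, inv_smul_eq_iff, hg]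
      · rw [mul_smul, mul_smul, hSx, hTx, mul_zero, zero_add, inv_smul_eq_iff, ht]
      · rw [mul_smul, mul_smul, hSx, hTx, mul_one, sub_add_cancel, inv_smul_eq_iff, hu]
    exact ⟨u - t, t, fun x => by rw [he, mul_smul, hSx, hTx]⟩
  have hex : ∀ x : F, x ≠ 0 → ∃ y : F, y ≠ 0 ∧ w • e x = e y := by
    intro x hx
    obtain ⟨o, ho⟩ := e.surjective (w • e x)
    cases o with
    | infty =>
      refine absurd ?_ hx
      rw [← hw0] at ho
      exact (OnePoint.coe_injective (e.injective (smul_left_cancel w ho))).symm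
    | coe y =>
      refine ⟨y, fun h => OnePoint.infty_ne_coe x ?_, ho.symm⟩
      rw [h, ← hwi] at ho
      exact e.injective (smul_left_cancel w ho)
  choose f hf0 hf using hex
  have hfu : ∀ {x y : F} (hx : x ≠ 0), w • e x = e y → f x hx = y := fun hx h =>
    OnePoint.coe_injective (e.injective ((hf _ hx).symm.trans h))
  have hf1 : f 1 one_ne_zero = 1 := hfu _ hw1
  have hff : ∀ x (hx : x ≠ 0), f (f x hx) (hf0 x hx) = x := fun x hx =>
    hfu _ (by rw [← hf x hx, hw2])
  -- multiplicativity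
  have hmul : ∀ (x y : F) (hx : x ≠ 0) (hy : y ≠ 0),
      f (x * y) (mul_ne_zero hx hy) = f x hx * f y hy := by
    intro x y hx hy
    obtain ⟨b, hbi, hb⟩ := hS x hx
    have hki : (w * b * w) • e ∞ = e ∞ := by rw [mul_smul, mul_smul, hwi, hb, mul_zero, hw0]
    have hk0 : (w * b * w) • e (0 : F) = e (0 : F) := by rw [mul_smul, mul_smul, hw0, hbi, hwi]
    obtain ⟨c, t, hk⟩ := haff _ hki
    rw [hk, mul_zero, zero_add] at hk0
    have ht : t = 0 := OnePoint.coe_injective (e.injective hk0)
    have hk1 := hk 1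
    rw [mul_smul, mul_smul, hw1, hb, mul_one, hf x hx, ht, add_zero, mul_one] at hk1
    have hc : f x hx = c := OnePoint.coe_injective (e.injective hk1)
    have hky := hk (f y hy)
    rw [mul_smul, mul_smul, hf _ (hf0 y hy), hff, hb, ht, add_zero, ← hc] at hky
    exact hfu _ hky
  have hn1 : (-1 : F) ≠ 0 := neg_ne_zero.2 one_ne_zero
  have hneg : f (-1) hn1 = -1 := by
    have h2 := hmul (-1) (-1) hn1 hn1
    simp only [neg_mul_neg, one_mul, hf1] at h2
    rcases mul_self_eq_one_iff.1 h2.symm with h3 | h3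
    · have h4 : f (f (-1) hn1) (hf0 _ hn1) = 1 := by simp only [h3, hf1]
      rw [hff] at h4
      rw [h3]
      exact h4.symm
    · exact h3
  obtain ⟨T, hTi, hTx⟩ := hT 1
  have hTx' : ∀ x : F, T⁻¹ • e x = e ((x - 1 : F) : OnePoint F) := fun x => by
    rw [inv_smul_eq_iff, hTx, sub_add_cancel]
  -- the additive relation
  have hrel : ∀ (x : F) (hx : x ≠ 0) (hfx : f x hx + 1 ≠ 0) (hx1 : x + 1 ≠ 0),
      f (f x hx + 1) hfx = 1 - f (x + 1) hx1 := by
    set g := w * (T⁻¹ * w * T * w) with hg
    have hgi : g • e ∞ = e ∞ := by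
      rw [hg, mul_smul, mul_smul, mul_smul, mul_smul, hwi, hTx, zero_add, hw1, hTx', sub_self, hw0]
    obtain ⟨α₁, β, hga⟩ := haff g hgi
    have hgx : ∀ y : α, (w * T * w) • y = (T * w) • g • y := by
      intro y
      rw [← mul_smul]
      refine congrArg (· • y) ?_
      calc w * T * w = T * (w * w) * T⁻¹ * w * T * w := by rw [hww]; group
        _ = T * w * g := by rw [hg]; group
    have hβ : β = -1 := by
      have h := hgx (e (0 : F))
      rw [hga, mul_zero, zero_add, mul_smul, mul_smul, hw0, hTi, hwi, mul_smul] at h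
      have hβ0 : β ≠ 0 := fun hb0 => by
        rw [hb0, hw0, hTi] at h
        exact hi0 h.symm
      rw [hf β hβ0, hTx] at h
      have h2 : f β hβ0 = -1 :=
        eq_neg_of_add_eq_zero_left (OnePoint.coe_injective (e.injective h)).symm
      calc β = f (f β hβ0) (hf0 β hβ0) := (hff β hβ0).symm
        _ = f (-1) hn1 := by simp only [h2]
        _ = -1 := hneg
    have hα₁ : α₁ = -1 := by
      have h := hgx (e ((-1 : F) : OnePoint F))
      rw [hga, mul_smul, mul_smul, hf _ hn1, hneg, hTx, neg_add_cancel, hw0, mul_smul] at h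
      have h1 : T • e ∞ = T • w • e ((α₁ * -1 + β : F) : OnePoint F) := by rw [hTi]; exact h
      have h2 := smul_left_cancel _ h1
      rw [← hw0] at h2
      have h3 := OnePoint.coe_injective (e.injective (smul_left_cancel w h2))
      rw [hβ] at h3
      linear_combination h3
    intro x hx hfx hx1
    have h := hgx (e x)
    rw [hga, hα₁, hβ, mul_smul, mul_smul, hf x hx, hTx, hf _ hfx, mul_smul] at h
    have hx2 : -1 * x + -1 ≠ (0 : F) := fun h' => hx1 (by linear_combination -h')
    rw [hf _ hx2, hTx] at h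
    have h2 := OnePoint.coe_injective (e.injective h)
    have h3 : f (-1 * x + -1) hx2 = - f (x + 1) hx1 := by
      have h4 := hmul (-1) (x + 1) hn1 hx1
      rw [hneg, neg_one_mul (f (x + 1) hx1)] at h4
      simp only [show -1 * x + -1 = (-1 : F) * (x + 1) by ring]
      exact h4
    rw [h2, h3]
    ring
  -- the elements inverted by `w` form a subfield containing the squares
  let P : F → Prop := fun x => ∀ hx : x ≠ 0, f x hx = x⁻¹
  have hPinv : ∀ x, P x → P x⁻¹ := fun x hP hx => by
    have hx' : x ≠ 0 := by simpa using hx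
    rw [inv_inv]
    simp only [← hP hx', hff]
  have hPmul : ∀ x y, P x → P y → P (x * y) := fun x y hPx hPy h => by
    obtain ⟨hx, hy⟩ := mul_ne_zero_iff.1 h
    rw [hmul x y hx hy, hPx hx, hPy hy, mul_inv]
  have hPsucc : ∀ x, P x → P (x + 1) := by
    intro x hP hx1
    by_cases hx : x = 0
    · subst hx; simp only [zero_add, hf1, inv_one]
    have hfx : f x hx + 1 ≠ 0 := by
      rw [hP hx, inv_eq_one_div, div_add_one hx, add_comm]
      exact div_ne_zero hx1 hx
    have h1 := hrel x hx hfx hx1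
    have h2 : f (f x hx + 1) hfx = f (x + 1) hx1 * f x⁻¹ (inv_ne_zero hx) := by
      rw [← hmul]
      congr 1
      rw [hP hx, add_mul, mul_inv_cancel₀ hx, one_mul, add_comm]
    rw [hPinv x hP (inv_ne_zero hx), inv_inv] at h2
    refine eq_inv_of_mul_eq_one_left ?_
    linear_combination h1 - h2
  have hPadd : ∀ x y, P x → P y → P (x + y) := by
    intro x y hPx hPy
    by_cases hy : y = 0
    · rwa [hy, add_zero]
    rw [show x + y = y * (x * y⁻¹ + 1) by field_simp]
    exact hPmul _ _ hPy (hPsucc _ (hPmul _ _ hPx (hPinv _ hPy)))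
  have hPsq : ∀ x, P (x * x) := fun x hx => hfu hx (hsq x (left_ne_zero_of_mul hx))
  have hall : ∀ x, P x := by
    intro x
    obtain ⟨u, v, huv⟩ : ∃ u v : F, u * u + v * v = x := by
      by_cases h2 : ringChar F = 2
      · obtain ⟨u, hu⟩ := FiniteField.isSquare_of_char_two h2 x
        exact ⟨u, 0, by rw [mul_zero, add_zero, ← hu]⟩
      · obtain ⟨u, v, huv⟩ := FiniteField.exists_root_sum_quadratic
          (f := Polynomial.X ^ 2) (g := Polynomial.X ^ 2 - Polynomial.C x)
          (Polynomial.degree_X_pow 2) (Polynomial.degree_X_pow_sub_C (by norm_num) x)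
          (FiniteField.odd_card_of_char_ne_two h2)
        simp only [Polynomial.eval_pow, Polynomial.eval_X, Polynomial.eval_sub,
          Polynomial.eval_C] at huv
        exact ⟨u, v, by linear_combination huv⟩
    rw [← huv]
    exact hPadd _ _ (hPsq u) (hPsq v)
  intro x hx
  rw [hf x hx, hall x hx]

/-- Recognition of `PGL(2, F)`. -/
theorem nonempty_equiv_pgl [Finite F] [FaithfulSMul G α] (e : OnePoint F ≃ α)
    (h3 : IsMultiplyPretransitive G α 3)
    (hs : ∀ (g : G) (a b c : α), a ≠ b → a ≠ c → b ≠ c → g • a = a → g • b = b → g • c = c → g = 1)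
    (hT : ∀ t : F, ∃ g : G, g • e ∞ = e ∞ ∧ ∀ x : F, g • e x = e ((x + t : F) : OnePoint F))
    (hS : ∀ r : F, r ≠ 0 → ∃ g : G, g • e ∞ = e ∞ ∧ ∀ x : F, g • e x = e ((r * x : F) : OnePoint F))
    {w : G} (hwi : w • e ∞ = e (0 : F)) (hw0 : w • e (0 : F) = e ∞) (hw1 : w • e (1 : F) = e (1 : F))
    (hsq : ∀ x : F, x ≠ 0 → w • e ((x * x : F) : OnePoint F) = e (((x * x)⁻¹ : F) : OnePoint F)) :
    Nonempty (G ≃* Matrix.ProjGenLinGroup (Fin 2) F) := by
  classical
  have hw := swap_eq_inv e hs hT hS hwi hw0 hw1 hsq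
  let hom : G →* Equiv.Perm (OnePoint F) :=
    (e.symm.permCongrHom : Equiv.Perm α →* Equiv.Perm (OnePoint F)).comp (MulAction.toPermHom G α)
  have hom_apply : ∀ (g : G) (o : OnePoint F), hom g o = e.symm (g • e o) := fun g o => rfl
  have hinj : Function.Injective hom := e.symm.permCongrHom.injective.comp MulAction.toPerm_injective
  have hmem : ∀ (g : G) (M : GL (Fin 2) F), (∀ o, g • e o = e (M • o)) → hom g ∈ (pglPerm F).range :=
    fun g M h => ⟨ProjGenLinGroup.mk M, Equiv.ext fun o => by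
      rw [hom_apply, h, Equiv.symm_apply_apply]; rfl⟩
  have hi0 : e ∞ ≠ e (0 : F) := e.injective.ne (OnePoint.infty_ne_coe _)
  have hi1 : e ∞ ≠ e (1 : F) := e.injective.ne (OnePoint.infty_ne_coe _)
  have h01 : e (0 : F) ≠ e (1 : F) := fun h =>
    zero_ne_one (OnePoint.coe_injective (e.injective h))
  have hTm : ∀ (t : F) (g : G), g • e ∞ = e ∞ → (∀ x : F, g • e x = e ((x + t : F) : OnePoint F)) →
      hom g ∈ (pglPerm F).range := by
    intro t g hgi hg
    refine hmem g (mat 1 t 0 1 (by simp)) fun o => ?_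
    cases o with
    | infty =>
      rw [hgi, OnePoint.smul_infty_eq_self_iff.2 (by simp [mat])]
    | coe x =>
      rw [hg, OnePoint.smul_some_eq_ite]
      simp [mat]
  have hSm : ∀ (r : F) (g : G), r ≠ 0 → g • e ∞ = e ∞ →
      (∀ x : F, g • e x = e ((r * x : F) : OnePoint F)) → hom g ∈ (pglPerm F).range := by
    intro r g hr hgi hg
    refine hmem g (mat r 0 0 1 (by simpa using hr)) fun o => ?_
    cases o with
    | infty =>
      rw [hgi, OnePoint.smul_infty_eq_self_iff.2 (by simp [mat])]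
    | coe x =>
      rw [hg, OnePoint.smul_some_eq_ite]
      simp [mat]
  have hwm : hom w ∈ (pglPerm F).range := by
    refine hmem w (mat 0 1 1 0 (by simp)) fun o => ?_
    cases o with
    | infty =>
      rw [hwi, OnePoint.smul_infty_eq_ite]
      simp [mat]
    | coe x =>
      by_cases hx : x = 0
      · subst hx
        rw [hw0, OnePoint.smul_some_eq_ite]
        simp [mat]
      · rw [hw x hx, OnePoint.smul_some_eq_ite]
        simp [mat, hx]
  have hfix : ∀ g : G, g • e ∞ = e ∞ → hom g ∈ (pglPerm F).range := by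
    intro g hg
    have hfin : ∀ x : F, ∃ y : F, g • e x = e y := by
      intro x
      obtain ⟨o, ho⟩ := e.surjective (g • e x)
      cases o with
      | infty =>
        exact absurd (e.injective (smul_left_cancel g (hg.trans ho))) (OnePoint.infty_ne_coe x)
      | coe y => exact ⟨y, ho.symm⟩
    obtain ⟨t, ht⟩ := hfin 0
    obtain ⟨u, hu⟩ := hfin 1
    have hr : u - t ≠ 0 := fun h => h01 (smul_left_cancel g (by rw [ht, hu, sub_eq_zero.1 h]))
    obtain ⟨T, hTi, hTx⟩ := hT t
    obtain ⟨S, hSi, hSx⟩ := hS (u - t) hr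
    have he : g = T * S := by
      rw [← inv_mul_eq_one]
      refine hs _ _ _ _ hi0 hi1 h01 ?_ ?_ ?_
      · rw [mul_smul, mul_smul, hSi, hTi, inv_smul_eq_iff, hg]
      · rw [mul_smul, mul_smul, hSx, hTx, mul_zero, zero_add, inv_smul_eq_iff, ht]
      · rw [mul_smul, mul_smul, hSx, hTx, mul_one, sub_add_cancel, inv_smul_eq_iff, hu]
    rw [he, map_mul]
    exact mul_mem (hTm t T hTi hTx) (hSm _ S hr hSi hSx)
  have hle : hom.range ≤ (pglPerm F).range := by
    rintro _ ⟨g, rfl⟩
    obtain ⟨o, ho⟩ := e.surjective (g • e ∞)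
    cases o with
    | infty => exact hfix g ho.symm
    | coe t =>
      obtain ⟨T, hTi, hTx⟩ := hT (-t)
      have h1 : (w * T * g) • e ∞ = e ∞ := by
        rw [mul_smul, mul_smul, ← ho, hTx, add_neg_cancel, hw0]
      rw [show g = (w * T)⁻¹ * (w * T * g) by group, map_mul, map_inv, map_mul]
      exact mul_mem (inv_mem (mul_mem hwm (hfix _ hTi))) (hfix _ h1)
  have hge : (pglPerm F).range ≤ hom.range := by
    rintro _ ⟨x, rfl⟩
    have hne : ∀ {o o' : OnePoint F}, o ≠ o' → e (pglPerm F x o) ≠ e (pglPerm F x o') :=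
      fun h => e.injective.ne ((pglPerm F x).injective.ne h)
    obtain ⟨g, hgi, hg0, hg1⟩ := CfsgLib.Perm.SharplyThree.exists_triple h3 hi0 hi1 h01
      (hne (e.injective.ne_iff.1 hi0)) (hne (e.injective.ne_iff.1 hi1))
      (hne (e.injective.ne_iff.1 h01))
    obtain ⟨y, hy⟩ := hle ⟨g, rfl⟩
    have key : ∀ o, g • e o = e (pglPerm F x o) → pglPerm F (x⁻¹ * y) o = o := fun o h => by
      rw [map_mul, map_inv, hy, Equiv.Perm.mul_apply, hom_apply, h, Equiv.symm_apply_apply,
        Equiv.Perm.inv_def, Equiv.symm_apply_apply]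
    have h := pglPerm_eq_one (key _ hgi) (key _ hg0) (key _ hg1)
    rw [inv_mul_eq_one] at h
    exact ⟨g, by rw [h, hy]⟩
  exact ⟨(MonoidHom.ofInjective hinj).trans ((MulEquiv.subgroupCongr (le_antisymm hle hge)).trans
    (MonoidHom.ofInjective pglPerm_injective).symm)⟩

end CfsgLib.Classification.SharplyThreeProjective
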